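import Groth.Agent.GeomReg.Basic
import Mathlib.Algebra.Polynomial.Laurent
import Mathlib.RingTheory.Polynomial.Quotient
import Mathlib.RingTheory.MvPolynomial.Homogeneous

/-!
Charts of the punctured cone: `S[1/X_j]` is a Laurent polynomial ring over the dehomogenised ring.
-/

set_option autoImplicit false

universe u

open MvPolynomial

namespace Groth.Agent.CINonsing

variable {k : Type u} [Field k] {n : ℕ}

/-- Dehomogenisation at `X j`. -/
noncomputable def dh (j : Fin (n + 1)) : MvPolynomial (Fin (n + 1)) k →ₐ[k] MvPolynomial (Fin n) k :=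
  aeval (Fin.insertNth j (1 : MvPolynomial (Fin n) k) fun l => X l)

theorem dh_X_self (j : Fin (n + 1)) : dh (k := k) j (X j) = 1 := by simp [dh]

theorem dh_X_succAbove (j : Fin (n + 1)) (l : Fin n) : dh (k := k) j (X (j.succAbove l)) = X l := by
  simp [dh]

open LaurentPolynomial in
/-- The scaling map `X_i ↦ dh(X_i) T`. -/
noncomputable def sc (j : Fin (n + 1)) :
    MvPolynomial (Fin (n + 1)) k →+* LaurentPolynomial (MvPolynomial (Fin n) k) :=
  eval₂Hom (LaurentPolynomial.C.comp MvPolynomial.C) fun i => LaurentPolynomial.C (dh j (X i)) * T 1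

open LaurentPolynomial in
theorem sc_homogeneous (j : Fin (n + 1)) {f : MvPolynomial (Fin (n + 1)) k} {d : ℕ}
    (hf : f.IsHomogeneous d) : sc j f = LaurentPolynomial.C (dh j f) * T (d : ℤ) := by
  conv_lhs => rw [f.as_sum]
  conv_rhs => rw [f.as_sum]
  rw [map_sum, map_sum, map_sum, Finset.sum_mul]
  refine Finset.sum_congr rfl fun m hm => ?_
  have hdeg : m.sum (fun _ e => e) = d := by
    have h := hf (MvPolynomial.mem_support_iff.1 hm)
    rw [Finsupp.weight_apply] at h
    simpa using h
  rw [sc, eval₂Hom_monomial, dh, aeval_monomial]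
  simp only [RingHom.comp_apply, MvPolynomial.algebraMap_eq, map_mul, aeval_X, mul_pow,
    Finsupp.prod, map_prod, map_pow, Finset.prod_mul_distrib, T_pow]
  rw [mul_assoc]
  congr 2
  rw [Finsupp.sum] at hdeg
  rw [← hdeg]
  clear hdeg hm
  induction m.support using Finset.induction_on with
  | empty => simp [T_zero]
  | insert a s ha ih => rw [Finset.prod_insert ha, Finset.sum_insert ha, ih, Nat.cast_add, T_add, mul_one]

theorem sc_X_self (j : Fin (n + 1)) : sc (k := k) j (X j) = LaurentPolynomial.T 1 := by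
  rw [sc, eval₂Hom_X', dh_X_self, map_one, one_mul]

/-- `S[1/X_j] ≅ P[T, T⁻¹]`. -/
noncomputable def chartEquiv (j : Fin (n + 1)) :
    Localization.Away (X j : MvPolynomial (Fin (n + 1)) k) ≃+* LaurentPolynomial (MvPolynomial (Fin n) k) :=
  let L := Localization.Away (X j : MvPolynomial (Fin (n + 1)) k)
  let xj : Lˣ := (IsLocalization.Away.algebraMap_isUnit (S := L) (X j : MvPolynomial (Fin (n + 1)) k)).unit
  let Φ : L →+* LaurentPolynomial (MvPolynomial (Fin n) k) :=
    IsLocalization.Away.lift (X j : MvPolynomial (Fin (n + 1)) k) (g := sc j)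
      (by rw [sc_X_self]; exact LaurentPolynomial.isUnit_T 1)
  let Ψ : LaurentPolynomial (MvPolynomial (Fin n) k) →+* L :=
    LaurentPolynomial.eval₂ (eval₂Hom ((algebraMap (MvPolynomial (Fin (n + 1)) k) L).comp MvPolynomial.C)
      fun l => algebraMap (MvPolynomial (Fin (n + 1)) k) L (X (j.succAbove l)) * ((xj⁻¹ : Lˣ) : L)) xj
  RingEquiv.ofRingHom Φ Ψ
    (by
      have hΦ : ∀ p, Φ (algebraMap _ L p) = sc j p := fun p => IsLocalization.Away.lift_eq _ _ p
      have hu : Φ ((xj⁻¹ : Lˣ) : L) = LaurentPolynomial.T (-1) := by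
        have h1 : Φ (xj : L) = LaurentPolynomial.T 1 := by
          rw [show (xj : L) = algebraMap _ L (X j) from IsUnit.unit_spec _, hΦ, sc_X_self]
        have h2 : Φ (xj : L) * Φ ((xj⁻¹ : Lˣ) : L) = 1 := by rw [← map_mul, Units.mul_inv, map_one]
        rw [h1] at h2
        have h3 := congrArg (fun z => LaurentPolynomial.T (-1) * z) h2
        simp only [← mul_assoc, ← LaurentPolynomial.T_add, mul_one] at h3
        simpa using h3
      refine AddMonoidAlgebra.ringHom_ext (fun p => ?_) (fun m => ?_)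
      · change Φ (Ψ (LaurentPolynomial.C p)) = LaurentPolynomial.C p
        have : (Φ.comp (eval₂Hom ((algebraMap (MvPolynomial (Fin (n + 1)) k) L).comp MvPolynomial.C)
            fun l => algebraMap (MvPolynomial (Fin (n + 1)) k) L (X (j.succAbove l)) * ((xj⁻¹ : Lˣ) : L))) = LaurentPolynomial.C := by
          refine MvPolynomial.ringHom_ext (fun c => ?_) fun l => ?_
          · simp [hΦ, sc]
          · rw [RingHom.comp_apply, eval₂Hom_X', map_mul, hΦ, hu, sc, eval₂Hom_X', dh_X_succAbove,
              mul_assoc, ← LaurentPolynomial.T_add]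
            simp
        simp only [Ψ, LaurentPolynomial.eval₂_C]
        exact DFunLike.congr_fun this p
      · change Φ (Ψ (LaurentPolynomial.T m)) = LaurentPolynomial.T m
        have h1 : Φ (xj : L) = LaurentPolynomial.T 1 := by
          rw [show (xj : L) = algebraMap _ L (X j) from IsUnit.unit_spec _, hΦ, sc_X_self]
        rcases Int.eq_nat_or_neg m with ⟨a, rfl | rfl⟩
        · simp only [Ψ, LaurentPolynomial.eval₂_T_n, map_pow, h1, LaurentPolynomial.T_pow, mul_one]
        · simp only [Ψ, LaurentPolynomial.eval₂_T_neg_n, map_pow, hu, LaurentPolynomial.T_pow,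
            mul_neg, mul_one])
    (by
      refine IsLocalization.ringHom_ext (Submonoid.powers (X j : MvPolynomial (Fin (n + 1)) k)) ?_
      refine MvPolynomial.ringHom_ext (fun c => ?_) fun i => ?_
      · simp [Φ, Ψ, sc, IsLocalization.Away.lift_eq] <;> rfl
      · simp only [RingHom.comp_apply, Φ, IsLocalization.Away.lift_eq, RingHom.id_apply]
        rw [sc, eval₂Hom_X', map_mul]
        rcases Fin.eq_self_or_eq_succAbove j i with rfl | ⟨l, rfl⟩
        · rw [dh_X_self]
          simp [Ψ, xj] <;> rfl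
        · rw [dh_X_succAbove]
          simp [Ψ, xj, mul_assoc] <;> rfl)

theorem chartEquiv_algebraMap (j : Fin (n + 1)) (p : MvPolynomial (Fin (n + 1)) k) :
    chartEquiv j (algebraMap _ _ p) = sc j p := by
  rw [chartEquiv, RingEquiv.ofRingHom_apply, IsLocalization.Away.lift_eq]

/-- If the dehomogenised ring at `X j` is regular, the cone is regular where `X j ≠ 0`. -/
theorem regular_of_chart (j : Fin (n + 1)) (G : Set (MvPolynomial (Fin (n + 1)) k))
    (hG : ∀ g ∈ G, ∃ d, g.IsHomogeneous d)
    (hreg : IsRegularRing (MvPolynomial (Fin n) k ⧸ Ideal.span (dh j '' G)))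
    (Q : Ideal (MvPolynomial (Fin (n + 1)) k ⧸ Ideal.span G)) [Q.IsPrime]
    (hQ : Ideal.Quotient.mk (Ideal.span G) (X j) ∉ Q) :
    IsRegularLocalRing (Localization.AtPrime Q) := by
  let P := MvPolynomial (Fin n) k
  let I : Ideal P := Ideal.span (dh j '' G)
  let J : Ideal (MvPolynomial (Fin (n + 1)) k) := Ideal.span G
  let L := Localization.Away (X j : MvPolynomial (Fin (n + 1)) k)
  haveI := hreg
  haveI : IsRegularRing (Polynomial P ⧸ I.map (Polynomial.C : P →+* Polynomial P)) :=
    IsRegularRing.of_ringEquiv (R := Polynomial (P ⧸ I)) (Ideal.polynomialQuotientEquivQuotientPolynomial I : Polynomial (P ⧸ I) ≃+* _)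
  let M : Submonoid (Polynomial P) := Submonoid.powers Polynomial.X
  let I' : Ideal (LaurentPolynomial P) :=
    (I.map (Polynomial.C : P →+* Polynomial P)).map (algebraMap (Polynomial P) (LaurentPolynomial P))
  haveI : IsRegularRing (LaurentPolynomial P ⧸ I') :=
    GeomReg.isRegularRing_of_isLocalization (B := Polynomial P ⧸ I.map (Polynomial.C : P →+* Polynomial P))
      (Algebra.algebraMapSubmonoid (Polynomial P ⧸ I.map (Polynomial.C : P →+* Polynomial P)) M) _
  have hmap : (J.map (algebraMap _ L)).map (chartEquiv (k := k) j).toRingHom = I' := by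
    have e1 : I' = Ideal.span ((fun p => LaurentPolynomial.C p) '' (dh j '' G)) := by
      show (Ideal.map _ (Ideal.map _ (Ideal.span _))) = _
      rw [Ideal.map_span, Ideal.map_span, ← Set.image_comp]
      refine congrArg _ (Set.image_congr' fun p => ?_)
      rw [Function.comp_apply, LaurentPolynomial.algebraMap_eq_toLaurent, Polynomial.toLaurent_C]
    rw [e1, Ideal.map_map]
    show Ideal.map _ (Ideal.span G) = _
    rw [Ideal.map_span, ← Set.image_comp]
    refine le_antisymm (Ideal.span_le.2 ?_) (Ideal.span_le.2 ?_)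
    · rintro _ ⟨g, hg, rfl⟩
      obtain ⟨d, hd⟩ := hG g hg
      rw [RingHom.comp_apply]
      change chartEquiv j (algebraMap _ _ g) ∈ _
      rw [chartEquiv_algebraMap, sc_homogeneous j hd]
      exact Ideal.mul_mem_right _ _ (Ideal.subset_span ⟨g, hg, rfl⟩)
    · rintro _ ⟨g, hg, rfl⟩
      obtain ⟨d, hd⟩ := hG g hg
      have : LaurentPolynomial.C (dh j g) = sc j g * LaurentPolynomial.T (-(d : ℤ)) := by
        rw [sc_homogeneous j hd, mul_assoc, ← LaurentPolynomial.T_add, add_neg_cancel,
          LaurentPolynomial.T_zero, mul_one]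
      show LaurentPolynomial.C (dh j g) ∈ _
      rw [this]
      refine Ideal.mul_mem_right _ _ (Ideal.subset_span ⟨g, hg, ?_⟩)
      exact chartEquiv_algebraMap j g
  haveI : IsRegularRing (L ⧸ J.map (algebraMap _ L)) :=
    IsRegularRing.of_ringEquiv (R := LaurentPolynomial P ⧸ I') (Ideal.quotientEquiv _ _ (chartEquiv j) hmap.symm).symm
  let N := Algebra.algebraMapSubmonoid (MvPolynomial (Fin (n + 1)) k ⧸ J)
    (Submonoid.powers (X j : MvPolynomial (Fin (n + 1)) k))
  have hdisj : Disjoint (N : Set (MvPolynomial (Fin (n + 1)) k ⧸ J)) (Q : Set (MvPolynomial (Fin (n + 1)) k ⧸ J)) := Set.disjoint_left.2 fun x hx hxQ => by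
    obtain ⟨_, ⟨a, rfl⟩, rfl⟩ := hx
    rw [Ideal.Quotient.algebraMap_eq, map_pow] at hxQ
    exact hQ (Ideal.IsPrime.mem_of_pow_mem ‹_› a hxQ)
  let Q' : Ideal (L ⧸ J.map (algebraMap _ L)) := Q.map (algebraMap _ _)
  haveI : Q'.IsPrime := IsLocalization.isPrime_of_isPrime_disjoint N _ Q ‹_› hdisj
  have hc := (RegLoc6.regular_iff_localization N (L ⧸ J.map (algebraMap _ L)) Q').mp
    (IsRegularRing.isRegularLocalRing_localization Q')
  have hQ' : Q'.under (MvPolynomial (Fin (n + 1)) k ⧸ J) = Q :=
    IsLocalization.under_map_of_isPrime_disjoint N _ ‹_› hdisj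
  have transfer : ∀ (P₁ P₂ : Ideal (MvPolynomial (Fin (n + 1)) k ⧸ J)) [P₁.IsPrime] [P₂.IsPrime],
      P₁ = P₂ → IsRegularLocalRing (Localization.AtPrime P₁) → IsRegularLocalRing (Localization.AtPrime P₂) := by
    intro P₁ P₂ _ _ he h
    subst he
    exact h
  exact transfer _ Q hQ' hc

end Groth.Agent.CINonsing
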