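import Groth.Agent.CINonsing.Normal
import Groth.Agent.CINonsing.Chart
import Groth.Agent.RegLoc6.Normal
import Groth.Agent.S10921

/-!
Existence of nonsingular complete intersections of prescribed multidegree, by affine Bertini for the
linear system of all monomials of a fixed degree.
-/

set_option autoImplicit false

universe u

open MvPolynomial

namespace Groth.Agent.CINonsing

variable {k : Type u} [Field k] {n : ℕ}

/-- Exponents of total degree `d`. -/
abbrev Exps (n d : ℕ) := {m : Fin (n + 1) → Fin (d + 1) // ∑ i, (m i : ℕ) = d}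

/-- The monomial of an exponent. -/
noncomputable def mon {d : ℕ} (m : Exps n d) : MvPolynomial (Fin (n + 1)) k := ∏ i, X i ^ (m.1 i : ℕ)

theorem mon_homogeneous {d : ℕ} (m : Exps n d) : (mon (k := k) m).IsHomogeneous d := by
  have h := IsHomogeneous.prod Finset.univ (fun i => (X i : MvPolynomial (Fin (n + 1)) k) ^ (m.1 i : ℕ))
    (fun i => (m.1 i : ℕ)) (fun i _ => isHomogeneous_X_pow i _)
  rw [m.2] at h
  exact h

/-- A pure power exponent. -/
def pure (d : ℕ) (j : Fin (n + 1)) : Exps n d :=
  ⟨fun i => if i = j then Fin.last d else 0, by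
    rw [Finset.sum_eq_single j (fun i _ hi => by simp [hi]) (by simp)]; simp⟩

theorem mon_pure (d : ℕ) (j : Fin (n + 1)) : mon (k := k) (pure d j) = X j ^ d := by
  rw [mon, Finset.prod_eq_single j (fun i _ hi => by simp [pure, hi]) (by simp)]
  simp [pure]

theorem exists_mixed {d : ℕ} (hd : 0 < d) (j : Fin (n + 1)) (l : Fin n) :
    ∃ m : Exps n d, dh (k := k) j (mon m) = X l := by
  let m : Fin (n + 1) → Fin (d + 1) :=
    Fin.insertNth j ⟨d - 1, by omega⟩ fun i => if i = l then ⟨1, by omega⟩ else 0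
  have hj : m j = ⟨d - 1, by omega⟩ := Fin.insertNth_apply_same _ _ _
  have hi : ∀ i, m (j.succAbove i) = if i = l then ⟨1, by omega⟩ else 0 := fun i =>
    Fin.insertNth_apply_succAbove _ _ _ _
  refine ⟨⟨m, ?_⟩, ?_⟩
  · rw [Fin.sum_univ_succAbove _ j, hj, Finset.sum_eq_single l (fun i _ hil => by simp [hi, hil]) (by simp), hi]
    simp only [if_pos rfl]
    show d - 1 + 1 = d
    omega
  · rw [mon, map_prod, Fin.prod_univ_succAbove _ j, map_pow, dh_X_self, one_pow, one_mul,
      Finset.prod_eq_single l (fun i _ hil => by simp [hi, hil]) (by simp)]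
    simp [hi, dh_X_succAbove]

theorem isRegularRing_of_subsingleton (A : Type u) [CommRing A] [Subsingleton A] : IsRegularRing A :=
  isRegularRing_iff.2 fun p hp => absurd (Subsingleton.elim p ⊤) hp.ne_top

theorem map_dh (j : Fin (n + 1)) (G : Set (MvPolynomial (Fin (n + 1)) k)) :
    (Ideal.span G).map (dh j) = Ideal.span (dh j '' G) := Ideal.map_span _ _

/-- The dehomogenisation of a homogeneous prime not containing `X j` is prime. -/
theorem isPrime_dh (j : Fin (n + 1)) (G : Set (MvPolynomial (Fin (n + 1)) k))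
    (hG : ∀ g ∈ G, ∃ d, g.IsHomogeneous d) [hp : (Ideal.span G).IsPrime] (hj : X j ∉ Ideal.span G) :
    (Ideal.span (dh j '' G)).IsPrime := by
  let P := MvPolynomial (Fin n) k
  let L := Localization.Away (X j : MvPolynomial (Fin (n + 1)) k)
  have hdisj : Disjoint (Submonoid.powers (X j : MvPolynomial (Fin (n + 1)) k) : Set (MvPolynomial (Fin (n + 1)) k))
      (Ideal.span G : Set (MvPolynomial (Fin (n + 1)) k)) :=
    (Ideal.disjoint_powers_iff_notMem _ hp.isRadical).2 hj
  haveI : ((Ideal.span G).map (algebraMap _ L)).IsPrime :=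
    IsLocalization.isPrime_of_isPrime_disjoint (Submonoid.powers (X j : MvPolynomial (Fin (n + 1)) k)) L _ hp hdisj
  let K : Ideal (LaurentPolynomial P) :=
    ((Ideal.span G).map (algebraMap _ L)).comap (chartEquiv (k := k) j).symm.toRingHom
  haveI : K.IsPrime := Ideal.comap_isPrime _ _
  suffices Ideal.span (dh j '' G) = K.comap (LaurentPolynomial.C : P →+* LaurentPolynomial P) by
    rw [this]; exact Ideal.comap_isPrime _ _
  have hK : K = ((Ideal.span G).map (algebraMap _ L)).map (chartEquiv (k := k) j).toRingHom :=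
    Ideal.comap_symm (chartEquiv (k := k) j)
  refine le_antisymm (Ideal.span_le.2 ?_) ?_
  · rintro _ ⟨g, hg, rfl⟩
    obtain ⟨d, hd⟩ := hG g hg
    show LaurentPolynomial.C (dh j g) ∈ K
    have : LaurentPolynomial.C (dh j g) = sc j g * LaurentPolynomial.T (-(d : ℤ)) := by
      rw [sc_homogeneous j hd, mul_assoc, ← LaurentPolynomial.T_add, add_neg_cancel,
        LaurentPolynomial.T_zero, mul_one]
    rw [this, hK, ← chartEquiv_algebraMap]
    exact Ideal.mul_mem_right _ _ (Ideal.mem_map_of_mem _ (Ideal.mem_map_of_mem _ (Ideal.subset_span hg)))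
  · intro p hp'
    let ε : LaurentPolynomial P →+* P := LaurentPolynomial.eval₂ (RingHom.id P) 1
    have hle : K.map ε ≤ Ideal.span (dh j '' G) := by
      rw [hK, Ideal.map_span, Ideal.map_span, Ideal.map_span, Ideal.span_le]
      rintro _ ⟨_, ⟨_, ⟨g, hg, rfl⟩, rfl⟩, rfl⟩
      obtain ⟨d, hd⟩ := hG g hg
      change ε (chartEquiv j (algebraMap _ L g)) ∈ Ideal.span (dh j '' G)
      rw [chartEquiv_algebraMap, sc_homogeneous j hd, map_mul]
      refine Ideal.mul_mem_right _ _ ?_
      show LaurentPolynomial.eval₂ (RingHom.id P) 1 (LaurentPolynomial.C (dh j g)) ∈ _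
      rw [LaurentPolynomial.eval₂_C]
      exact Ideal.subset_span ⟨g, hg, rfl⟩
    have h1 := hle (Ideal.mem_map_of_mem ε (Ideal.mem_comap.1 hp'))
    rwa [show ε (LaurentPolynomial.C p) = p from LaurentPolynomial.eval₂_C _ _ p] at h1

section step

variable {d N : ℕ} (e : Fin (N + 1) ≃ Exps n d)

/-- The general form of degree `d`. -/
noncomputable def form (a : Fin (N + 1) → k) : MvPolynomial (Fin (n + 1)) k := ∑ l, C (a l) * mon (e l)

theorem form_homogeneous (a : Fin (N + 1) → k) : (form e a).IsHomogeneous d :=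
  IsHomogeneous.sum _ _ _ fun l _ => IsHomogeneous.C_mul (mon_homogeneous (e l)) (a l)

theorem exists_avoid (J : Ideal (MvPolynomial (Fin (n + 1)) k)) [J.IsPrime] (i : Fin (n + 1))
    (hi : X i ∉ J) :
    ∃ g : MvPolynomial (Fin (N + 1)) k, g ≠ 0 ∧ ∀ a : Fin (N + 1) → k, eval a g ≠ 0 → form e a ∉ J := by
  classical
  let v : Fin (N + 1) → MvPolynomial (Fin (n + 1)) k ⧸ J := fun l => Ideal.Quotient.mk J (mon (e l))
  have hv : v (e.symm (pure d i)) ≠ 0 := by
    simp only [v, Equiv.apply_symm_apply, mon_pure, Ne, Ideal.Quotient.eq_zero_iff_mem]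
    exact fun h => hi (Ideal.IsPrime.mem_of_pow_mem ‹_› d h)
  obtain ⟨φ, hφ⟩ := Module.Projective.exists_dual_ne_zero k hv
  refine ⟨∑ l, C (φ (v l)) * X l, fun h0 => hφ ?_, fun a ha hmem => ha ?_⟩
  · have := congrArg (eval (Pi.single (e.symm (pure d i)) (1 : k))) h0
    simpa [Pi.single_apply] using this
  · have h1 : φ (Ideal.Quotient.mk J (form e a)) = 0 := by
      rw [Ideal.Quotient.eq_zero_iff_mem.2 hmem, map_zero]
    rw [form, map_sum, map_sum] at h1
    rw [map_sum, ← h1]
    refine Finset.sum_congr rfl fun l _ => ?_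
    rw [map_mul, eval_C, eval_X, ← smul_eq_C_mul]
    show _ = φ (a l • v l)
    rw [map_smul, smul_eq_mul, mul_comm]

variable [IsAlgClosed k] (hd : 0 < d)

include hd

theorem exists_step (j : Fin (n + 1)) (G : Set (MvPolynomial (Fin (n + 1)) k))
    (hG : ∀ g ∈ G, ∃ m, g.IsHomogeneous m) [hp : (Ideal.span G).IsPrime]
    (hreg : IsRegularRing (MvPolynomial (Fin n) k ⧸ Ideal.span (dh j '' G))) :
    ∃ g : MvPolynomial (Fin (N + 1)) k, g ≠ 0 ∧ ∀ a : Fin (N + 1) → k, eval a g ≠ 0 →
      IsRegularRing (MvPolynomial (Fin n) k ⧸ Ideal.span (dh j '' insert (form e a) G)) := by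
  classical
  by_cases hj : X j ∈ Ideal.span G
  · refine ⟨1, one_ne_zero, fun a _ => ?_⟩
    have htop : Ideal.span (dh j '' insert (form e a) G) = ⊤ := by
      refine (Ideal.eq_top_iff_one _).2 ?_
      have h1 := Ideal.mem_map_of_mem (dh j) hj
      rw [map_dh, dh_X_self] at h1
      exact Ideal.span_mono (Set.image_mono (Set.subset_insert _ _)) h1
    haveI : Subsingleton (MvPolynomial (Fin n) k ⧸ Ideal.span (dh j '' insert (form e a) G)) :=
      Ideal.Quotient.subsingleton_iff.2 htop
    exact isRegularRing_of_subsingleton _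
  haveI := isPrime_dh j G hG hj
  haveI := hreg
  let I : Ideal (MvPolynomial (Fin n) k) := Ideal.span (dh j '' G)
  let p₀ : Fin (N + 1) := e.symm (pure d j)
  let x : Fin N → MvPolynomial (Fin n) k ⧸ I := fun i =>
    Ideal.Quotient.mk I (dh j (mon (e (p₀.succAbove i))))
  have hx : Function.Surjective
      (aeval x : MvPolynomial (Fin N) k →ₐ[k] MvPolynomial (Fin n) k ⧸ I) := by
    rw [← AlgHom.range_eq_top, eq_top_iff]
    rintro z -
    obtain ⟨p, rfl⟩ := Ideal.Quotient.mk_surjective z
    induction p using MvPolynomial.induction_on with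
    | C c => exact ⟨C c, by simp; rfl⟩
    | add p q hp hq => rw [map_add]; exact add_mem hp hq
    | mul_X p l hp =>
      rw [map_mul]
      refine mul_mem hp ?_
      obtain ⟨m, hm⟩ := exists_mixed (k := k) hd j l
      obtain ⟨i, hi⟩ := Fin.exists_succAbove_eq (show e.symm m ≠ p₀ from fun h => by
        rw [e.symm.injective h, mon_pure, map_pow, dh_X_self, one_pow] at hm
        exact absurd (congrArg (fun q => (eval (0 : Fin n → k)) q) hm) (by simp))
      refine ⟨X i, ?_⟩
      show aeval x (X i) = _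
      rw [aeval_X]
      show Ideal.Quotient.mk I _ = _
      rw [hi, Equiv.apply_symm_apply, hm]
  haveI : Algebra.FiniteType k (MvPolynomial (Fin n) k ⧸ I) := Algebra.FiniteType.of_surjective _ hx
  haveI : IsDomain (MvPolynomial (Fin n) k ⧸ I) := (Ideal.Quotient.isDomain_iff_prime _).2 ‹_›
  obtain ⟨g, hg0, hg⟩ := S10921.affine_bertini p₀ (MvPolynomial (Fin n) k ⧸ I) x hx
  refine ⟨g, hg0, fun a ha => ?_⟩
  have hh : Ideal.Quotient.mk I (dh j (form e a)) = algebraMap k _ (a p₀) +
      ∑ i, algebraMap k _ (a (p₀.succAbove i)) * x i := by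
    rw [form, map_sum, map_sum, Fin.sum_univ_succAbove _ p₀]
    refine congrArg₂ (· + ·) ?_ (Finset.sum_congr rfl fun i _ => ?_)
    · rw [map_mul, Equiv.apply_symm_apply, mon_pure, map_pow, dh_X_self, one_pow, mul_one,
        ← MvPolynomial.algebraMap_eq, AlgHom.commutes]
      rfl
    · rw [map_mul, map_mul, ← MvPolynomial.algebraMap_eq, AlgHom.commutes]
      rfl
  haveI : IsRegularRing ((MvPolynomial (Fin n) k ⧸ I) ⧸
      Ideal.span {Ideal.Quotient.mk I (dh j (form e a))}) :=
    isRegularRing_iff.2 fun q _ => hg a ha _ hh q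
  refine IsRegularRing.of_ringEquiv (R := (MvPolynomial (Fin n) k ⧸ I) ⧸
      Ideal.span {Ideal.Quotient.mk I (dh j (form e a))})
    ((Ideal.quotEquivOfEq ?_).trans ((DoubleQuot.quotQuotEquivQuotSup I (Ideal.span {dh j (form e a)})).trans
      (Ideal.quotEquivOfEq ?_)))
  · rw [Ideal.map_span, Set.image_singleton]
  · rw [Set.image_insert_eq, Ideal.span_insert, sup_comm]

end step

theorem exists_forms [IsAlgClosed k] (r : ℕ) (hr : r < n) (d : Fin r → ℕ) (hd : ∀ i, 0 < d i) :
    ∃ f : Fin r → MvPolynomial (Fin (n + 1)) k,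
      (∀ i, (f i).IsHomogeneous (d i)) ∧
      (∀ i j, IsRegularRing (MvPolynomial (Fin n) k ⧸ Ideal.span (dh j '' {f i}))) ∧
      (Ideal.span (Set.range f)).IsPrime ∧
      (∀ j, IsRegularRing (MvPolynomial (Fin n) k ⧸ Ideal.span (dh j '' Set.range f))) ∧
      (Ideal.span (Set.range f)).height = (r : ℕ∞) := by
  classical
  induction r with
  | zero =>
    have he : Set.range (Fin.elim0 : Fin 0 → MvPolynomial (Fin (n + 1)) k) = ∅ := Set.range_eq_empty _
    refine ⟨Fin.elim0, fun i => i.elim0, fun i => i.elim0, ?_, fun j => ?_, ?_⟩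
    · rw [he, Ideal.span_empty]; exact Ideal.isPrime_bot
    · rw [he, Set.image_empty, Ideal.span_empty]
      exact IsRegularRing.of_ringEquiv (R := MvPolynomial (Fin n) k) (RingEquiv.quotientBot _).symm
    · rw [he, Ideal.span_empty, Ideal.height_bot]; rfl
  | succ r ih =>
    obtain ⟨f, hf, hsing, hpr, hchart, hht⟩ := ih (by omega) (fun i => d i.castSucc) fun i => hd _
    haveI := hpr
    let D := d (Fin.last r)
    haveI : Nonempty (Exps n D) := ⟨pure D 0⟩
    obtain ⟨N, hN⟩ := Nat.exists_eq_succ_of_ne_zero (Fintype.card_ne_zero (α := Exps n D))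
    let e : Fin (N + 1) ≃ Exps n D := ((Fintype.equivFin _).trans (finCongr hN)).symm
    have hG : ∀ g ∈ Set.range f, ∃ m, g.IsHomogeneous m := by
      rintro _ ⟨i, rfl⟩; exact ⟨_, hf i⟩
    have hbot : (Ideal.span (∅ : Set (MvPolynomial (Fin (n + 1)) k))).IsPrime := by
      rw [Ideal.span_empty]; exact Ideal.isPrime_bot
    have h1 : ∀ j, ∃ g : MvPolynomial (Fin (N + 1)) k, g ≠ 0 ∧ ∀ a, eval a g ≠ 0 →
        IsRegularRing (MvPolynomial (Fin n) k ⧸ Ideal.span (dh j '' insert (form e a) (Set.range f))) :=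
      fun j => exists_step e (hd _) j _ hG (hchart j)
    have h2 : ∀ j, ∃ g : MvPolynomial (Fin (N + 1)) k, g ≠ 0 ∧ ∀ a, eval a g ≠ 0 →
        IsRegularRing (MvPolynomial (Fin n) k ⧸ Ideal.span (dh j '' insert (form e a) ∅)) :=
      fun j => exists_step e (hd _) j ∅ (by simp) (hp := hbot) (by
        rw [Set.image_empty, Ideal.span_empty]
        exact IsRegularRing.of_ringEquiv (R := MvPolynomial (Fin n) k) (RingEquiv.quotientBot _).symm)
    obtain ⟨i₀, hi₀⟩ : ∃ i, (X i : MvPolynomial (Fin (n + 1)) k) ∉ Ideal.span (Set.range f) := by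
      by_contra hc
      push Not at hc
      have hV := eq_vertex _ hpr.ne_top hc
      rw [hV] at hht
      have := Groth.Agent.LC.Liaison.le_height_vertex (K := k) (n + 1)
      rw [hht, ENat.coe_le_coe] at this
      omega
    obtain ⟨g₀, hg₀, hg₀'⟩ := exists_avoid e (Ideal.span (Set.range f)) i₀ hi₀
    choose g₁ hg₁ hg₁' using h1
    choose g₂ hg₂ hg₂' using h2
    haveI : Infinite k := IsAlgClosed.instInfinite
    let g := g₀ * (∏ j, g₁ j) * ∏ j, g₂ j
    have hg : g ≠ 0 := mul_ne_zero (mul_ne_zero hg₀ (Finset.prod_ne_zero_iff.2 fun j _ => hg₁ j))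
      (Finset.prod_ne_zero_iff.2 fun j _ => hg₂ j)
    obtain ⟨a, ha⟩ : ∃ a, eval a g ≠ 0 := by
      by_contra hc
      push Not at hc
      exact hg (MvPolynomial.funext fun a => by rw [hc a, map_zero])
    simp only [g, map_mul, map_prod, mul_ne_zero_iff, Finset.prod_ne_zero_iff] at ha
    obtain ⟨⟨ha₀, ha₁⟩, ha₂⟩ := ha
    let F := Fin.snoc f (form e a) (α := fun _ => MvPolynomial (Fin (n + 1)) k)
    have hrange : Set.range F = insert (form e a) (Set.range f) := Fin.range_snoc _ _
    have hF : ∀ i, (F i).IsHomogeneous (d i) := by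
      intro i
      refine Fin.lastCases ?_ (fun i => ?_) i
      · simpa [F] using form_homogeneous e a
      · simpa [F] using hf i
    have hht' : (Ideal.span (Set.range F)).height = ((r + 1 : ℕ) : ℕ∞) := by
      have hJV : Ideal.span (Set.range F) ≤ RingHom.ker (constantCoeff (σ := Fin (n + 1)) (R := k)) := by
        rw [Ideal.span_le]
        rintro _ ⟨i, rfl⟩
        rw [SetLike.mem_coe, RingHom.mem_ker]
        exact (hF i).coeff_eq_zero (by simpa using (hd i).ne)
      refine le_antisymm ?_ ?_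
      · refine (Ideal.height_le_spanFinrank _ (ne_top_of_le_ne_top (RingHom.ker_ne_top _) hJV)).trans ?_
        refine Nat.cast_le.2 ((Submodule.spanFinrank_span_le_ncard_of_finite (Set.finite_range F)).trans ?_)
        rw [← Set.image_univ]
        exact (Set.ncard_image_le Set.finite_univ).trans (by simp)
      · rw [Ideal.height_eq_inf_minimalPrimes]
        refine le_iInf₂ fun P hP => ?_
        haveI := hP.1.1
        have hle : Ideal.span (Set.range f) ≤ P :=
          (Ideal.span_mono (by rw [hrange]; exact Set.subset_insert _ _)).trans hP.1.2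
        have hlt : Ideal.span (Set.range f) < P := lt_of_le_of_ne hle fun h => hg₀' a ha₀ (by
          rw [h]; exact hP.1.2 (Ideal.subset_span (by rw [hrange]; exact Set.mem_insert _ _)))
        have := Ideal.height_add_one_le_of_lt_of_isPrime hlt
        rw [hht] at this
        exact_mod_cast this
    have hchart' : ∀ j, IsRegularRing (MvPolynomial (Fin n) k ⧸ Ideal.span (dh j '' Set.range F)) :=
      fun j => by rw [hrange]; exact hg₁' j a (ha₁ j (Finset.mem_univ j))
    refine ⟨F, hF, fun i j => ?_, ?_, hchart', hht'⟩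
    · refine Fin.lastCases ?_ (fun i => ?_) i
      · have := hg₂' j a (ha₂ j (Finset.mem_univ j))
        rw [show F (Fin.last r) = form e a from Fin.snoc_last ..]
        rwa [← insert_empty_eq (form e a)]
      · rw [show F i.castSucc = f i from Fin.snoc_castSucc ..]
        exact hsing i j
    · haveI := isDomain d hr hd hF hht' (fun Q _ hQ => by
        obtain ⟨j, hj⟩ := hQ
        haveI := regular_of_chart j (Set.range F) (by rintro _ ⟨i, rfl⟩; exact ⟨_, hF i⟩) (hchart' j) Q hj
        exact ⟨RegLoc6.isDomain_of_isRegularLocalRing (Localization.AtPrime Q),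
          RegLoc6.isIntegrallyClosed_aux _ _ le_rfl⟩)
      exact (Ideal.Quotient.isDomain_iff_prime _).1 this

end Groth.Agent.CINonsing
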