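import Groth.Agent.LC.LiaisonGlobal
import Groth.Agent.LC.LiaisonLC
import Mathlib.RingTheory.MvPolynomial.Ideal
import Mathlib.RingTheory.IntegralClosure.IntegrallyClosed

/-!
Projective normality of normal complete intersections: `S/J` is a normal domain when `J` is generated
by `r < n` forms, has height `r`, and the localisations away from the vertex are normal domains.
-/

set_option autoImplicit false

universe u

open MvPolynomial

namespace Groth.Agent.CINonsing

open Groth.Agent.LC.Liaison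

variable {k : Type u} [Field k] {n r : ℕ}

theorem mem_vertex_iff (p : MvPolynomial (Fin (n + 1)) k) :
    p ∈ RingHom.ker (constantCoeff (σ := Fin (n + 1)) (R := k)) ↔
      p ∈ Ideal.span (Set.range (X : Fin (n + 1) → MvPolynomial (Fin (n + 1)) k)) := by
  rw [RingHom.mem_ker, ← Set.image_univ, mem_ideal_span_X_image]
  constructor
  · intro h m hm
    by_contra hc
    push Not at hc
    have : m = 0 := Finsupp.ext fun i => by simpa using hc i (Set.mem_univ i)
    subst this
    exact (mem_support_iff.1 hm) h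
  · intro h
    by_contra hc
    obtain ⟨i, -, hi⟩ := h 0 (mem_support_iff.2 hc)
    exact hi rfl

/-- A prime containing all variables is the vertex. -/
theorem eq_vertex (P : Ideal (MvPolynomial (Fin (n + 1)) k)) (hP : P ≠ ⊤)
    (h : ∀ i, (X i : MvPolynomial (Fin (n + 1)) k) ∈ P) :
    P = RingHom.ker (constantCoeff (σ := Fin (n + 1)) (R := k)) := by
  have hmax : (RingHom.ker (constantCoeff (σ := Fin (n + 1)) (R := k))).IsMaximal :=
    RingHom.ker_isMaximal_of_surjective _ fun c => ⟨C c, constantCoeff_C _ c⟩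
  refine (hmax.eq_of_le hP fun p hp => ?_).symm
  exact Ideal.span_le.2 (by rintro _ ⟨i, rfl⟩; exact h i) ((mem_vertex_iff p).1 hp)

theorem isHomogeneous_span (f : Fin r → MvPolynomial (Fin (n + 1)) k) (d : Fin r → ℕ)
    (hf : ∀ i, (f i).IsHomogeneous (d i)) :
    (Ideal.span (Set.range f)).IsHomogeneous (GrSyz.stdGr k (Fin (n + 1))) := by
  refine Ideal.homogeneous_span _ _ ?_
  rintro _ ⟨i, rfl⟩
  refine ⟨(d i : ℤ), (GrSyz.mem_stdGr_iff k (Fin (n + 1)) (d i : ℤ) (f i)).2 fun m hm => ?_⟩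
  have h1 := hf i hm
  rw [Finsupp.weight_apply, Finsupp.sum] at h1 ⊢
  rw [← h1]
  push_cast
  refine Finset.sum_congr rfl fun a _ => ?_
  simp

/-- An element of the fraction field integral over `R` lies in each integrally closed localisation. -/
theorem exists_mul_mem_of_integral {R : Type u} [CommRing R] [IsDomain R] (M : Submonoid R)
    (hM : M ≤ nonZeroDivisors R) (L : Type u) [CommRing L] [IsDomain L] [IsIntegrallyClosed L]
    [Algebra R L] [IsLocalization M L] (a s : R) (hs0 : s ≠ 0)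
    (hx : IsIntegral R (algebraMap R (FractionRing R) a / algebraMap R (FractionRing R) s)) :
    ∃ u ∈ M, u * a ∈ Ideal.span {s} := by
  have hinj : Function.Injective (algebraMap R (FractionRing L)) := by
    rw [IsScalarTower.algebraMap_eq R L (FractionRing L)]
    exact (IsFractionRing.injective L (FractionRing L)).comp (IsLocalization.injective L hM)
  let φ : FractionRing R →ₐ[R] FractionRing L :=
    IsFractionRing.liftAlgHom (g := Algebra.ofId R (FractionRing L)) hinj
  have hint : IsIntegral L (φ (algebraMap _ _ a / algebraMap _ _ s)) := (hx.map φ).tower_top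
  obtain ⟨y, hy⟩ := (IsIntegrallyClosed.isIntegral_iff).1 hint
  obtain ⟨⟨c, ⟨u, hu⟩⟩, hcu⟩ := IsLocalization.surj M y
  refine ⟨u, hu, Ideal.mem_span_singleton'.2 ⟨c, hinj ?_⟩⟩
  have hs' : algebraMap R (FractionRing L) s ≠ 0 := fun h => hs0 (hinj (by rw [h, map_zero]))
  rw [map_div₀, φ.commutes, φ.commutes, eq_div_iff hs'] at hy
  have hcu' : algebraMap L (FractionRing L) y * algebraMap R (FractionRing L) u =
      algebraMap R (FractionRing L) c := by
    rw [IsScalarTower.algebraMap_apply R L (FractionRing L) u, ← map_mul, hcu,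
      ← IsScalarTower.algebraMap_apply]
  rw [map_mul, map_mul, ← hcu', ← hy]
  ring

section

variable (f : Fin r → MvPolynomial (Fin (n + 1)) k) (d : Fin r → ℕ)

local notation "S" => MvPolynomial (Fin (n + 1)) k
local notation "J" => Ideal.span (Set.range f)

variable {f}

theorem two_le_height (hr : r < n) (p : Ideal (S ⧸ J)) [p.IsPrime]
    (hp : ∀ i, Ideal.Quotient.mk J (X i) ∈ p) : (2 : ℕ∞) ≤ p.height := by
  let P := p.comap (Ideal.Quotient.mk J)
  haveI : P.IsPrime := Ideal.comap_isPrime _ p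
  have hJP : J ≤ P := fun x hx => by
    rw [Ideal.mem_comap, Ideal.Quotient.eq_zero_iff_mem.2 hx]; exact p.zero_mem
  have hPV : P = _ := eq_vertex P (Ideal.IsPrime.ne_top ‹_›) hp
  have h1 : ((n + 1 : ℕ) : ℕ∞) ≤ P.height := by rw [hPV]; exact le_height_vertex (n + 1)
  have h2 := Ideal.height_le_height_add_spanFinrank_of_le hJP
  rw [show P.map (Ideal.Quotient.mk J) = p from
    Ideal.map_comap_of_surjective _ Ideal.Quotient.mk_surjective p] at h2
  have h3 : Submodule.spanFinrank J ≤ r := by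
    refine (Submodule.spanFinrank_span_le_ncard_of_finite (Set.finite_range f)).trans ?_
    rw [← Set.image_univ]
    exact (Set.ncard_image_le Set.finite_univ).trans (by simp)
  by_contra hc
  push Not at hc
  obtain ⟨m, hm⟩ := ENat.ne_top_iff_exists.1 (hc.ne_top)
  rw [← hm] at hc h2
  have hm2 : m < 2 := by exact_mod_cast hc
  have h4 := h1.trans h2
  rw [← Nat.cast_add] at h4
  have := ENat.coe_le_coe.1 h4
  omega

/-- Off the vertex membership in a principal ideal can be checked locally. -/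
theorem mem_span_of_local (hr : r < n) (hJh : Ideal.height J = (r : ℕ∞)) {s : S ⧸ J}
    (hs : IsSMulRegular (S ⧸ J) s) {a : S ⧸ J}
    (h : ∀ (Q : Ideal (S ⧸ J)) [Q.IsPrime], (∃ i, Ideal.Quotient.mk J (X i) ∉ Q) →
      ∃ u ∉ Q, u * a ∈ Ideal.span {s}) : a ∈ Ideal.span {s} := by
  haveI := gorensteinRing_ci f rfl hJh
  haveI := isCohenMacaulayRing_of_gorenstein (S ⧸ J)
  refine mem_of_forall_ass fun p hp => ?_
  have hle := le_of_ass hp
  obtain ⟨hpp, z, hz⟩ := mem_ass_iff'.1 hp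
  haveI := hpp
  refine h p ?_
  by_contra hc
  push Not at hc
  have h2 := two_le_height hr p hc
  rw [height_eq_one_of_ass_regular hs (hle (Ideal.mem_span_singleton_self s)) z hz] at h2
  exact absurd h2 (by norm_num)

theorem eq_zero_of_local (hr : r < n) (hJh : Ideal.height J = (r : ℕ∞)) {a : S ⧸ J}
    (h : ∀ (Q : Ideal (S ⧸ J)) [Q.IsPrime], (∃ i, Ideal.Quotient.mk J (X i) ∉ Q) →
      ∃ u ∉ Q, u * a = 0) : a = 0 := by
  haveI := gorensteinRing_ci f rfl hJh
  haveI := isCohenMacaulayRing_of_gorenstein (S ⧸ J)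
  rw [← Ideal.mem_bot]
  refine mem_of_forall_ass fun p hp => ?_
  obtain ⟨hpp, z, hz⟩ := mem_ass_iff'.1 hp
  haveI := hpp
  have hass : p ∈ associatedPrimes (S ⧸ J) (S ⧸ J) :=
    Alg6.mem_ass_iff.2 ⟨hpp, z, fun a => by rw [smul_eq_mul, hz a, Ideal.mem_bot]⟩
  obtain ⟨u, hu, h0⟩ := h p (by
    by_contra hc
    push Not at hc
    have h2 := two_le_height hr p hc
    rw [Ideal.height_eq_zero_iff.2 (minimal_of_ass hass)] at h2
    exact absurd h2 (by norm_num))
  exact ⟨u, hu, by rw [h0]; exact Submodule.zero_mem _⟩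

theorem idempotent_trivial (hd : ∀ i, 0 < d i) (hf : ∀ i, (f i).IsHomogeneous (d i))
    {c : S ⧸ J} (hc : c * c = c) : c = 0 ∨ c = 1 := by
  classical
  obtain ⟨c, rfl⟩ := Ideal.Quotient.mk_surjective c
  have hJ := isHomogeneous_span f d hf
  have hJV : J ≤ RingHom.ker (constantCoeff (σ := Fin (n + 1)) (R := k)) := by
    rw [Ideal.span_le]
    rintro _ ⟨i, rfl⟩
    rw [SetLike.mem_coe, RingHom.mem_ker]
    exact (hf i).coeff_eq_zero (by simpa using (hd i).ne)
  have key : ∀ c : S, c * c - c ∈ J → constantCoeff c = 0 → Ideal.Quotient.mk J c = 0 := by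
    intro c hc h0
    have hrad : c ∈ (J).radical := by
      rw [← Ideal.sInf_minimalPrimes, Submodule.mem_sInf]
      intro P hP
      have hPV := minimal_le_vertex hJ hP
      haveI := hP.1.1
      have h1 : c * c - c ∈ P := hP.1.2 hc
      rw [show c * c - c = c * (c - 1) by ring] at h1
      refine (Ideal.IsPrime.mem_or_mem ‹_› h1).resolve_right fun hc1 => ?_
      have := hPV hc1
      rw [RingHom.mem_ker, map_sub, h0, map_one] at this
      simp at this
    obtain ⟨N, hN⟩ := hrad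
    have h2 : IsIdempotentElem (Ideal.Quotient.mk J c) := by
      show _ * _ = _
      rw [← map_mul, Ideal.Quotient.mk_eq_mk_iff_sub_mem]
      exact hc
    have h3 := h2.pow_succ_eq (n := N)
    rw [← h3, pow_succ, ← map_pow, Ideal.Quotient.eq_zero_iff_mem.2 hN, zero_mul]
  have hc' : c * c - c ∈ J := by
    rw [← Ideal.Quotient.mk_eq_mk_iff_sub_mem, map_mul]; exact hc
  have h01 : constantCoeff c * (constantCoeff c - 1) = 0 := by
    have := RingHom.mem_ker.1 (hJV hc')
    rw [map_sub, map_mul] at this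
    linear_combination this
  rcases mul_eq_zero.1 h01 with h | h
  · exact Or.inl (key c hc' h)
  · refine Or.inr ?_
    have h' := key (1 - c) (by convert hc' using 1; ring) (by
      rw [map_sub, map_one]; linear_combination -h)
    rw [map_sub, map_one, sub_eq_zero] at h'
    exact h'.symm

variable (hr : r < n) (hd : ∀ i, 0 < d i) (hf : ∀ i, (f i).IsHomogeneous (d i))
  (hJh : Ideal.height (Ideal.span (Set.range f)) = (r : ℕ∞))
  (hnorm : ∀ (Q : Ideal (MvPolynomial (Fin (n + 1)) k ⧸ Ideal.span (Set.range f))) [Q.IsPrime],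
    (∃ i, Ideal.Quotient.mk (Ideal.span (Set.range f)) (X i) ∉ Q) →
    IsDomain (Localization.AtPrime Q) ∧ IsIntegrallyClosed (Localization.AtPrime Q))

include hr hd hf hJh hnorm

theorem isDomain : IsDomain (S ⧸ J) := by
  classical
  have hJne : J ≠ ⊤ := ne_top_of_height_eq hJh
  haveI : Nontrivial (S ⧸ J) := Ideal.Quotient.nontrivial_iff.2 hJne
  haveI hred : IsReduced (S ⧸ J) := ⟨fun x ⟨N, hN⟩ => eq_zero_of_local hr hJh fun Q _ hQ => by
    haveI := (hnorm Q hQ).1
    have h0 : algebraMap (S ⧸ J) (Localization.AtPrime Q) x = 0 :=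
      IsReduced.eq_zero _ ⟨N, by rw [← map_pow, hN, map_zero]⟩
    rw [IsLocalization.map_eq_zero_iff Q.primeCompl] at h0
    obtain ⟨⟨u, hu⟩, h0⟩ := h0
    exact ⟨u, hu, h0⟩⟩
  have hnil : ∀ x : S ⧸ J, (∀ P ∈ minimalPrimes (S ⧸ J), x ∈ P) → x = 0 := by
    intro x hx
    refine IsReduced.eq_zero x ?_
    rw [nilpotent_iff_mem_prime]
    intro P hP
    haveI := hP
    obtain ⟨P', hP', hle⟩ := Ideal.exists_minimalPrimes_le (bot_le : (⊥ : Ideal (S ⧸ J)) ≤ P)
    exact hle (hx P' hP')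
  obtain ⟨⟨P, hP⟩⟩ := Ideal.nonempty_minimalPrimes (bot_ne_top : (⊥ : Ideal (S ⧸ J)) ≠ ⊤)
  haveI : P.IsPrime := hP.1.1
  suffices hall : ∀ Q ∈ minimalPrimes (S ⧸ J), Q = P by
    have hbot : P = ⊥ := eq_bot_iff.2 fun x hx =>
      (Ideal.mem_bot).2 (hnil x fun Q hQ => (hall Q hQ).symm ▸ hx)
    haveI : (⊥ : Ideal (S ⧸ J)).IsPrime := hbot ▸ ‹P.IsPrime›
    exact IsDomain.of_bot_isPrime _
  intro Q₀ hQ₀
  by_contra hne
  let T : Finset (Ideal (S ⧸ J)) :=
    ((minimalPrimes.finite_of_isNoetherianRing (S ⧸ J)).toFinset).erase P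
  have hT : ∀ Q, Q ∈ T ↔ Q ≠ P ∧ Q ∈ minimalPrimes (S ⧸ J) := fun Q => by simp [T]
  have hle : ∀ Q ∈ T, ¬ P ≤ Q := fun Q hQ hle => ((hT Q).1 hQ).1
    (le_antisymm (((hT Q).1 hQ).2.2 hP.1 hle) hle)
  have hle' : ∀ Q ∈ T, ¬ Q ≤ P := fun Q hQ hle => ((hT Q).1 hQ).1
    (le_antisymm hle (hP.2 ((hT Q).1 hQ).2.1 hle))
  obtain ⟨a, haP, haT⟩ : ∃ a ∈ P, ∀ Q ∈ T, a ∉ Q := by
    by_contra hc
    push Not at hc
    have hsub : (P : Set (S ⧸ J)) ⊆ ⋃ Q ∈ (↑T : Set (Ideal (S ⧸ J))), ((id Q : Ideal (S ⧸ J)) : Set (S ⧸ J)) :=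
      fun x hx => by
        obtain ⟨Q, hQ, hxQ⟩ := hc x hx
        exact Set.mem_biUnion (Finset.mem_coe.2 hQ) hxQ
    obtain ⟨Q, hQ, hPQ⟩ := (Ideal.subset_union_prime (f := id) P P
      (fun Q hQ _ _ => ((hT Q).1 hQ).2.1.1)).1 hsub
    exact hle Q hQ hPQ
  have hb : ∀ Q ∈ T, ∃ b ∈ Q, b ∉ P := fun Q hQ => SetLike.not_le_iff_exists.1 (hle' Q hQ)
  choose! b hbQ hbP using hb
  let B : S ⧸ J := ∏ Q ∈ T, b Q
  have hBT : ∀ Q ∈ T, B ∈ Q := fun Q hQ =>
    Ideal.mem_of_dvd Q (Finset.dvd_prod_of_mem b hQ) (hbQ Q hQ)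
  have hBP : B ∉ P := fun h => by
    obtain ⟨Q, hQ, hQP⟩ := (Ideal.IsPrime.prod_mem_iff (p := P)).1 h
    exact hbP Q hQ hQP
  have hab : a * B = 0 := hnil _ fun Q hQ => by
    by_cases hQP : Q = P
    · exact hQP ▸ P.mul_mem_right _ haP
    · exact Q.mul_mem_left _ (hBT Q ((hT Q).2 ⟨hQP, hQ⟩))
  have hsQ : ∀ Q ∈ minimalPrimes (S ⧸ J), a + B ∉ Q := fun Q hQ h => by
    by_cases hQP : Q = P
    · subst hQP
      exact hBP ((Ideal.add_mem_iff_right _ haP).1 h)
    · have hQT := (hT Q).2 ⟨hQP, hQ⟩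
      exact haT Q hQT ((Ideal.add_mem_iff_left _ (hBT Q hQT)).1 h)
  have hs : IsSMulRegular (S ⧸ J) (a + B) := by
    intro x y hxy
    change (a + B) * x = (a + B) * y at hxy
    refine sub_eq_zero.1 (hnil _ fun Q hQ => ?_)
    have h0 : (a + B) * (x - y) ∈ Q := by rw [mul_sub, hxy, sub_self]; exact Q.zero_mem
    exact (hQ.1.1.mem_or_mem h0).resolve_left (hsQ Q hQ)
  have hmem : a ∈ Ideal.span {a + B} := mem_span_of_local hr hJh hs fun Q _ hQ => by
    haveI := (hnorm Q hQ).1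
    have h0 : algebraMap (S ⧸ J) (Localization.AtPrime Q) a *
        algebraMap (S ⧸ J) (Localization.AtPrime Q) B = 0 := by rw [← map_mul, hab, map_zero]
    rcases mul_eq_zero.1 h0 with h | h <;> rw [IsLocalization.map_eq_zero_iff Q.primeCompl] at h <;>
      obtain ⟨⟨u, hu⟩, hu0⟩ := h <;> refine ⟨u, hu, ?_⟩
    · change u * a = 0 at hu0
      rw [hu0]; exact Submodule.zero_mem _
    · change u * B = 0 at hu0
      refine Ideal.mem_span_singleton'.2 ⟨u, ?_⟩
      rw [mul_add, hu0, add_zero]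
  obtain ⟨c, hc⟩ := Ideal.mem_span_singleton'.1 hmem
  have hcc : c * c = c := by
    have h2 : (a + B) * ((a + B) * (c * c)) = (a + B) * ((a + B) * c) := by
      calc (a + B) * ((a + B) * (c * c)) = (c * (a + B)) * (c * (a + B)) := by ring
        _ = a * a := by rw [hc]
        _ = a * (a + B) := by rw [mul_add, hab, add_zero]
        _ = (a + B) * (c * (a + B)) := by rw [hc, mul_comm]
        _ = _ := by ring
    exact hs (hs h2)
  have hQ₀T : Q₀ ∈ T := (hT Q₀).2 ⟨hne, hQ₀⟩
  rcases idempotent_trivial d hd hf hcc with rfl | rfl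
  · exact haT Q₀ hQ₀T (by rw [← hc, zero_mul]; exact Q₀.zero_mem)
  · exact hBP (by
      rw [one_mul] at hc
      rw [show B = 0 from left_eq_add.1 hc.symm]; exact P.zero_mem)

theorem isIntegrallyClosed : IsIntegrallyClosed (S ⧸ J) := by
  haveI := isDomain d hr hd hf hJh hnorm
  refine (isIntegrallyClosed_iff (FractionRing (S ⧸ J))).2 fun {x} hx => ?_
  obtain ⟨a, s, hs, rfl⟩ := IsFractionRing.div_surjective (A := S ⧸ J) x
  have hs0 : s ≠ 0 := nonZeroDivisors.ne_zero hs
  have hmem : a ∈ Ideal.span {s} := mem_span_of_local hr hJh (fun x y h => mul_left_cancel₀ hs0 h)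
    fun Q _ hQ => by
      haveI := (hnorm Q hQ).1
      haveI := (hnorm Q hQ).2
      exact exists_mul_mem_of_integral Q.primeCompl Q.primeCompl_le_nonZeroDivisors
        (Localization.AtPrime Q) a s hs0 hx
  obtain ⟨c, hc⟩ := Ideal.mem_span_singleton'.1 hmem
  refine ⟨c, ?_⟩
  rw [eq_div_iff (by simpa using hs0), ← map_mul, hc]

end

end Groth.Agent.CINonsing
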